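import Cfsg.Agent.H0.OHe.D
set_option maxRecDepth 100000
set_option Elab.async false
set_option linter.unusedSectionVars false
namespace H0.OHe
open H0 BN 
theorem defs_ok : DefsOK R.p defs 16 := defsOK_of_chk c70
universe u
variable {G : Type u} [Group G] [Finite G] (m0 : Model G) (h0 : m0.R = H0.MHe.R)
noncomputable def m : Model G := m0.ext (lg := nat_lit 12) (N := nat_lit 4096) (l := H0.MHe.nl) h0 nl nl_ok 16 rfl defs defs_ok (by decide +kernel)
theorem mR : (m m0 h0).R = R := rfl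
variable (hb : m0.pst [1361, 416, 1, 0] = ⊥) (hc : Nat.card G = 4030387200)
include h0 hb hc
theorem base : (m m0 h0).pst [1361, 416, 1, 0] = ⊥ := hb
omit hb hc in
theorem xch_ok : (m m0 h0).ChainOK xch [] := ((m m0 h0).chain_cons [0, 1, 0, 1, 0, 1, 0, 1, 0, 1, 0, 1, 0, 1, 0, 1, 0, 1, 0, 1, 0, 1] (Model.via _ (mR m0 h0) (fun R => Model.fixP R [] [[19], [20]]) c10) (Model.via _ (mR m0 h0) (fun R => Model.growP R [[19], [20]] [0, 1, 0, 1, 0, 1, 0, 1, 0, 1, 0, 1, 0, 1, 0, 1, 0, 1, 0, 1, 0, 1] 951 2058) c11) ((m m0 h0).chain_cons [0, 1, 0, 1, 0, 1, 0, 1, 0, 1, 0, 1, 0, 0] (Model.via _ (mR m0 h0) (fun R => Model.fixP R [951] [[21], [22]]) c8) (Model.via _ (mR m0 h0) (fun R => Model.growP R [[21], [22]] [0, 1, 0, 1, 0, 1, 0, 1, 0, 1, 0, 1, 0, 0] 698 136) c9) ((m m0 h0).chain_cons [0, 1, 0, 1, 0, 1, 0, 1, 0, 1] (Model.via _ (mR m0 h0) (fun R => Model.fixP R [698, 951] [[23], [24]]) c6) (Model.via _ (mR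 m0 h0) (fun R => Model.growP R [[23], [24]] [0, 1, 0, 1, 0, 1, 0, 1, 0, 1] 1953 60) c7) ((m m0 h0).chain_cons [0, 1, 0, 0, 1, 1, 0, 0] (Model.via _ (mR m0 h0) (fun R => Model.fixP R [1953, 698, 951] [[25], [26]]) c4) (Model.via _ (mR m0 h0) (fun R => Model.growP R [[25], [26]] [0, 1, 0, 0, 1, 1, 0, 0] 507 24) c5) ((m m0 h0).chain_cons [0, 1, 0, 1] (Model.via _ (mR m0 h0) (fun R => Model.fixP R [507, 1953, 698, 951] [[27], [28]]) c2) (Model.via _ (mR m0 h0) (fun R => Model.growP R [[27], [28]] [0, 1, 0, 1] 611 5) c3) ((m m0 h0).chain_cons [0] (Model.via _ (mR m0 h0) (fun R => Model.fixP R [611, 507, 1953, 698, 951] [[29]]) c0) (Model.via _ (mR m0 h0) (fun R => Model.growP R [[29]] [0] 74 2) c1) ((m m0 h0).chain_nil _)))))))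
theorem xtop : gen (m m0 h0).g (Model.cgens xch) = ⊤ := (m m0 h0).chain_top (xch_ok m0 h0) (hc.trans (by decide +kernel))
theorem xbdd : (m m0 h0).Bdd := (m m0 h0).bdd_of_top (xtop m0 h0 hb hc)
theorem xot : (m m0 h0).OTOK xOT := ((m m0 h0).otok_cons (xch_ok m0 h0) (hc.trans (by decide +kernel)) 2 rfl (Model.via _ (mR m0 h0) (fun R => Model.invB R (Model.cgens (xch.drop 2)) xO0) c23) ((m m0 h0).otok_cons (xch_ok m0 h0) (hc.trans (by decide +kernel)) 2 rfl (Model.via _ (mR m0 h0) (fun R => Model.invB R (Model.cgens (xch.drop 2)) xO1) c22) ((m m0 h0).otok_cons (xch_ok m0 h0) (hc.trans (by decide +kernel)) 1 rfl (Model.via _ (mR m0 h0) (fun R => Model.invB R (Model.cgens (xch.drop 1)) xO2) c21) ((m m0 h0).otok_cons (xch_ok m0 h0) (hc.trans (by decide +kernel)) 0 rfl (Model.via _ (mR m0 h0) (fun R => Model.invB R (Model.cgens (xch.drop 0)) xO3) c20) (m m0 h0).otok_nil))))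
theorem xcm : ∀ w ∈ xCg, (m m0 h0).Cm [[16]] (ev (m m0 h0).g w) := (m m0 h0).cm_of_pairs (all_take_done (all_take_step (all_take_zero _ (xCg.flatMap fun w => [[16]].map fun y => (w ++ y, y ++ w))) ((m m0 h0).pairs_of (base m0 h0 hb hc) (Model.via _ (mR m0 h0) (fun R => pairsB R [1361, 416, 1, 0] (((xCg.flatMap fun w => [[16]].map fun y => (w ++ y, y ++ w)).drop 0).take 1)) c24))) (by decide +kernel))
theorem xn2 : (m m0 h0).Sol [[16]] xCg [74, 611, 507, 1953, 698, 951] [74, 611, 507, 1953, 698, 951] := (m m0 h0).sol_done [0, 1, 2, 3, 4, 5] (((m m0 h0).chain_bot (xch_ok m0 h0) (hc.trans (by decide +kernel))).le.trans bot_le) (by decide +kernel)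
theorem xn1 : (m m0 h0).Sol [[16]] xCg [951] [951] := (m m0 h0).sol_free (xbdd m0 h0 hb hc) (xcm m0 h0 hb hc) (xot m0 h0 hb hc) ((m m0 h0).excl_zero _ _) (Model.via _ (mR m0 h0) (fun R => freeB R xOT [[16]] xCg [0] [951] [951] [] 698 0 [([], 698, 2)] [[0]] [0, 0, 0, 0, 0, 0, 0, 0, 0, 0, 0, 0, 0, 0, 0, 0] xc16) c16) ((m m0 h0).solL_leaves (xot m0 h0 hb hc) [0] (Bc := [74, 611, 507, 1953, 698]) (Model.via _ (mR m0 h0) (fun R => cycB R (subst [[16]] [0]) [74, 611, 507, 1953, 698]) c13) (Model.via _ (mR m0 h0) (fun R => allL (leafB R xOT (subst [[16]] [0]) [0, 1, 2, 3, 4, 5] [74, 611, 507, 1953, 698] [951] [951]) xL15) c15) ((m m0 h0).solL_cons ((m m0 h0).sol_cyc [0] (Bc := [74, 611, 507, 1953, 698]) (T := [74, 611, 507, 1953, 698]) rfl (Model.via _ (mR m0 h0) (fun R => cycB R (subst [[16]] [0]) [74, 611, 507, 1953, 698]) c13) (Model.via _ (mR m0 h0) (fun R => cycB R (subst [[16]] [0]) [74, 611, 507,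 1953, 698]) c14) (xn2 m0 h0 hb hc)) (m m0 h0).solL_nil))
theorem xn0 : (m m0 h0).Sol [[16]] xCg [] [] := (m m0 h0).sol_free (xbdd m0 h0 hb hc) (xcm m0 h0 hb hc) (xot m0 h0 hb hc) ((m m0 h0).excl_mov (xbdd m0 h0 hb hc) [0] (Model.via _ (mR m0 h0) (fun R => exclB R (subst [[16]] [0]) 951 xD0) c18)) (Model.via _ (mR m0 h0) (fun R => freeB R xOT [[16]] xCg [] [] [] [] 951 xD0 [([], 951, 3)] [[0]] [] xc19) c19) ((m m0 h0).solL_cons ((m m0 h0).sol_cyc [] (Bc := [951]) (T := [951]) rfl (Model.via _ (mR m0 h0) (fun R => cycB R (subst [[16]] []) [951]) c12) (Model.via _ (mR m0 h0) (fun R => cycB R (subst [[16]] []) [951]) c17) (xn1 m0 h0 hb hc)) (m m0 h0).solL_nil)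
theorem xsol : (m m0 h0).Sol [[16]] xCg [] [] := xn0 m0 h0 hb hc
omit hb hc in
theorem ych_ok : (m m0 h0).ChainOK ych [] := ((m m0 h0).chain_cons [0, 1, 0, 1, 0, 1, 0, 1, 0, 1, 0, 1, 0, 1, 0, 1, 0, 1, 0, 1, 0, 1] (Model.via _ (mR m0 h0) (fun R => Model.fixP R [] [[19], [20]]) c39) (Model.via _ (mR m0 h0) (fun R => Model.growP R [[19], [20]] [0, 1, 0, 1, 0, 1, 0, 1, 0, 1, 0, 1, 0, 1, 0, 1, 0, 1, 0, 1, 0, 1] 951 2058) c40) ((m m0 h0).chain_cons [0, 1, 0, 1, 0, 1, 0, 1, 0, 1, 1, 0] (Model.via _ (mR m0 h0) (fun R => Model.fixP R [951] [[30], [31]]) c37) (Model.via _ (mR m0 h0) (fun R => Model.growP R [[30], [31]] [0, 1, 0, 1, 0, 1, 0, 1, 0, 1, 1, 0] 1686 136) c38) ((m m0 h0).chain_cons [0, 1, 0, 0, 1, 0, 1, 0, 0, 1, 0] (Model.via _ (mR m0 h0) (fun R => Model.fixP R [1686, 951] [[32], [33]]) c35) (Model.via _ (mR m0 h0) (fun R => Model.growP R [[32], [33]] [0, 1, 0, 0, 1, 0, 1, 0, 0, 1, 0] 1747 60) c36)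 ((m m0 h0).chain_cons [0, 1, 0, 1, 0, 0, 1] (Model.via _ (mR m0 h0) (fun R => Model.fixP R [1747, 1686, 951] [[34], [35]]) c33) (Model.via _ (mR m0 h0) (fun R => Model.growP R [[34], [35]] [0, 1, 0, 1, 0, 0, 1] 1493 15) c34) ((m m0 h0).chain_cons [0] (Model.via _ (mR m0 h0) (fun R => Model.fixP R [1493, 1747, 1686, 951] [[36], [37], [38]]) c31) (Model.via _ (mR m0 h0) (fun R => Model.growP R [[36], [37], [38]] [0] 743 2) c32) ((m m0 h0).chain_cons [2] (Model.via _ (mR m0 h0) (fun R => Model.fixP R [743, 1493, 1747, 1686, 951] [[39], [40], [41]]) c29) (Model.via _ (mR m0 h0) (fun R => Model.growP R [[39], [40], [41]] [2] 5 2) c30) ((m m0 h0).chain_cons [0] (Model.via _ (mR m0 h0) (fun R => Model.fixP R [5, 743, 1493, 1747, 1686, 951] [[42], [43]]) c27) (Model.via _ (mR m0 h0) (fun R => Model.growP R [[42], [43]] [0] 1436 2) c28) ((m m0 h0).chain_cons [0] (Model.via _ (mR m0 h0) (fun R => Model.fixP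 R [1436, 5, 743, 1493, 1747, 1686, 951] [[44]]) c25) (Model.via _ (mR m0 h0) (fun R => Model.growP R [[44]] [0] 1420 2) c26) ((m m0 h0).chain_nil _)))))))))
theorem ytop : gen (m m0 h0).g (Model.cgens ych) = ⊤ := (m m0 h0).chain_top (ych_ok m0 h0) (hc.trans (by decide +kernel))
theorem ybdd : (m m0 h0).Bdd := (m m0 h0).bdd_of_top (ytop m0 h0 hb hc)
theorem yot : (m m0 h0).OTOK yOT := ((m m0 h0).otok_cons (ych_ok m0 h0) (hc.trans (by decide +kernel)) 5 rfl (Model.via _ (mR m0 h0) (fun R => Model.invB R (Model.cgens (ych.drop 5)) yO0) c60) ((m m0 h0).otok_cons (ych_ok m0 h0) (hc.trans (by decide +kernel)) 1 rfl (Model.via _ (mR m0 h0) (fun R => Model.invB R (Model.cgens (ych.drop 1)) yO1) c59) ((m m0 h0).otok_cons (ych_ok m0 h0) (hc.trans (by decide +kernel)) 8 rfl (Model.via _ (mR m0 h0) (fun R => Model.invB R (Model.cgens (ych.drop 8)) yO2) c58) ((m m0 h0).otok_cons (ych_ok m0 h0) (hc.trans (by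 decide +kernel)) 0 rfl (Model.via _ (mR m0 h0) (fun R => Model.invB R (Model.cgens (ych.drop 0)) yO3) c57) (m m0 h0).otok_nil))))
theorem ycm : ∀ w ∈ yCg, (m m0 h0).Cm [[17]] (ev (m m0 h0).g w) := (m m0 h0).cm_of_pairs (all_take_done (all_take_step (all_take_zero _ (yCg.flatMap fun w => [[17]].map fun y => (w ++ y, y ++ w))) ((m m0 h0).pairs_of (base m0 h0 hb hc) (Model.via _ (mR m0 h0) (fun R => pairsB R [1361, 416, 1, 0] (((yCg.flatMap fun w => [[17]].map fun y => (w ++ y, y ++ w)).drop 0).take 2)) c61))) (by decide +kernel))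
theorem yn3 : (m m0 h0).Sol [[17]] yCg [1937, 1420, 1436, 5, 743, 1493, 1747, 1686, 951] [1937, 1420, 1436, 5, 743, 1493, 1747, 1686, 951] := (m m0 h0).sol_done [1, 2, 3, 4, 5, 6, 7, 8] (((m m0 h0).chain_bot (ych_ok m0 h0) (hc.trans (by decide +kernel))).le.trans bot_le) (by decide +kernel)
theorem yn2 : (m m0 h0).Sol [[17]] yCg [743, 1493, 1747, 1686, 951] [743, 1493, 1747, 1686, 951] := (m m0 h0).sol_free (ybdd m0 h0 hb hc) (ycm m0 h0 hb hc) (yot m0 h0 hb hc) ((m m0 h0).excl_zero _ _) (Model.via _ (mR m0 h0) (fun R => freeB R yOT [[17]] yCg [0, 1, 2, 3, 4] [743, 1493, 1747, 1686, 951] [743, 1493, 1747, 1686, 951] [] 5 0 [([], 5, 0)] [[0, 0, 0, 0]] [0] yc45) c45) ((m m0 h0).solL_cons ((m m0 h0).sol_cyc [0] (Bc := [1937, 1420, 1436, 5]) (T := [1937, 1420, 1436, 5]) rfl (Model.via _ (mR m0 h0) (fun R => cycB R (subst [[17]] [0]) [1937, 1420, 1436, 5]) c43) (Model.via _ (mR m0 h0) (fun R => cycB R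 (subst [[17]] [0]) [1937, 1420, 1436, 5]) c44) (yn3 m0 h0 hb hc)) (m m0 h0).solL_nil)
theorem yn1 : (m m0 h0).Sol [[17]] yCg [951] [951] := (m m0 h0).sol_free (ybdd m0 h0 hb hc) (ycm m0 h0 hb hc) (yot m0 h0 hb hc) ((m m0 h0).excl_mov (ybdd m0 h0 hb hc) [0, 0, 0, 0] (Model.via _ (mR m0 h0) (fun R => exclB R (subst [[17]] [0, 0, 0, 0]) 1686 yD1) c47)) (Model.via _ (mR m0 h0) (fun R => freeB R yOT [[17]] yCg [0] [951] [951] [] 1686 yD1 [([], 1686, 1)] [[0], [1]] [0, 1, 0, 0] yc48) c48) ((m m0 h0).solL_cons ((m m0 h0).sol_cyc [0] (Bc := [743, 1493, 1747, 1686]) (T := [743, 1493, 1747, 1686]) rfl (Model.via _ (mR m0 h0) (fun R => cycB R (subst [[17]] [0]) [743, 1493, 1747, 1686]) c42) (Model.via _ (mR m0 h0) (fun R => cycB R (subst [[17]] [0]) [743, 1493, 1747, 1686]) c46) (yn2 m0 h0 hb hc)) (m m0 h0).solL_nil)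
theorem yn5 : (m m0 h0).Sol [[17]] yCg [743, 1493, 1747, 1686, 951] [1686, 743, 1493, 1747, 1948] := (m m0 h0).sol_free (ybdd m0 h0 hb hc) (ycm m0 h0 hb hc) (yot m0 h0 hb hc) ((m m0 h0).excl_zero _ _) (Model.via _ (mR m0 h0) (fun R => freeB R yOT [[17]] yCg [0, 1, 2, 3, 4] [743, 1493, 1747, 1686, 951] [1686, 743, 1493, 1747, 1948] [34, 35, 34, 32, 33, 33, 31, 31, 31, 31, 19] 5 0 [([], 5, 0)] [[0, 0, 0, 0]] [0] yc51) c51) ((m m0 h0).solL_leaves (yot m0 h0 hb hc) [0] (Bc := [1937, 1420, 1436, 5]) (Model.via _ (mR m0 h0) (fun R => cycB R (subst [[17]] [0]) [1937, 1420, 1436, 5]) c43) (Model.via _ (mR m0 h0) (fun R => allL (leafB R yOT (subst [[17]] [0]) [1, 2, 3, 4, 5, 6, 7, 8] [1937, 1420, 1436, 5] [743, 1493, 1747, 1686, 951] [1686, 743, 1493, 1747, 1948]) yL50) c50) (m m0 h0).solL_nil)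
theorem yn4 : (m m0 h0).Sol [[17]] yCg [951] [1948] := (m m0 h0).sol_free (ybdd m0 h0 hb hc) (ycm m0 h0 hb hc) (yot m0 h0 hb hc) ((m m0 h0).excl_mov (ybdd m0 h0 hb hc) [0, 0, 0, 0] (Model.via _ (mR m0 h0) (fun R => exclB R (subst [[17]] [0, 0, 0, 0]) 1686 yD1) c47)) (Model.via _ (mR m0 h0) (fun R => freeB R yOT [[17]] yCg [0] [951] [1948] [19] 1686 yD1 [([], 1686, 1)] [[0], [1]] [0, 1, 0, 0] yc53) c53) ((m m0 h0).solL_cons ((m m0 h0).sol_cyc [0] (Bc := [743, 1493, 1747, 1686]) (T := [1686, 743, 1493, 1747]) rfl (Model.via _ (mR m0 h0) (fun R => cycB R (subst [[17]] [0]) [743, 1493, 1747, 1686]) c42) (Model.via _ (mR m0 h0) (fun R => cycB R (subst [[17]] [0]) [1686, 743, 1493, 1747]) c52) (yn5 m0 h0 hb hc)) (m m0 h0).solL_nil)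
theorem yn0 : (m m0 h0).Sol [[17]] yCg [] [] := (m m0 h0).sol_free (ybdd m0 h0 hb hc) (ycm m0 h0 hb hc) (yot m0 h0 hb hc) ((m m0 h0).excl_mov (ybdd m0 h0 hb hc) [0] (Model.via _ (mR m0 h0) (fun R => exclB R (subst [[17]] [0]) 951 yD0) c55)) (Model.via _ (mR m0 h0) (fun R => freeB R yOT [[17]] yCg [] [] [] [] 951 yD0 [([], 951, 3)] [[0], [1]] [] yc56) c56) ((m m0 h0).solL_cons ((m m0 h0).sol_cyc [] (Bc := [951]) (T := [1948]) rfl (Model.via _ (mR m0 h0) (fun R => cycB R (subst [[17]] []) [951]) c41) (Model.via _ (mR m0 h0) (fun R => cycB R (subst [[17]] []) [1948]) c54) (yn4 m0 h0 hb hc)) ((m m0 h0).solL_cons ((m m0 h0).sol_cyc [] (Bc := [951]) (T := [951]) rfl (Model.via _ (mR m0 h0) (fun R => cycB R (subst [[17]] []) [951]) c41) (Model.via _ (mR m0 h0) (fun R => cycB R (subst [[17]] []) [951]) c49) (yn1 m0 h0 hb hc)) (m m0 h0).solL_nil))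
theorem ysol : (m m0 h0).Sol [[17]] yCg [] [] := yn0 m0 h0 hb hc
theorem inj : Function.Injective (m m0 h0).φ := (m m0 h0).inj_of_base (base m0 h0 hb hc)
theorem gtop : gen (m m0 h0).g ([16, 17, 18].map fun x => [x]) = ⊤ :=
  top_of_marks ((m m0 h0).defsOK_g (inj m0 h0 hb hc) ((mR m0 h0).symm ▸ defs_ok)) _ (xtop m0 h0 hb hc) (by decide +kernel)
theorem cl : ∀ k ∈ Subgroup.centralizer {ev (m m0 h0).g [17]}, ∃ w ∈ CL, k = ev (m m0 h0).g w := fun k hk =>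
  list_closed (all_take_done (all_take_step (all_take_zero _ CE) ((m m0 h0).pairs_of (base m0 h0 hb hc) (Model.via _ (mR m0 h0) (fun R => pairsB R [1361, 416, 1, 0] ((CE.drop 0).take 32)) c62))) (by decide +kernel)) (by decide +kernel) k ((m m0 h0).cent_le (ysol m0 h0 hb hc) hk)
theorem ocl : (m m0 h0).OutCl 16 17 18 [(1, []), (3, [45, 17])] :=
  (m m0 h0).outCl (r := 17) (t := 2) (s := 8) (e := 1) (n := 3) (K := [1, 3]) (RL := RL) (EL := EL) hc (by decide +kernel) (by decide +kernel)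
    (all_take_done (all_take_step (all_take_zero _ (Model.outE 16 17 18 [17] 17 2 1 3 RL)) ((m m0 h0).pairs_of (base m0 h0 hb hc) (Model.via _ (mR m0 h0) (fun R => pairsB R [1361, 416, 1, 0] (((Model.outE 16 17 18 [17] 17 2 1 3 RL).drop 0).take 7)) c63))) (by decide +kernel)) ((m m0 h0).ne_of_neB (Model.via _ (mR m0 h0) (fun R => neB R [16] [] 0 1910 0) c64)) (xsol m0 h0 hb hc) (cl m0 h0 hb hc)
    (by decide +kernel) (by decide +kernel) (all_take_done (all_take_step (all_take_zero _ EL) (allL_spec (Model.via _ (mR m0 h0) (fun R => allL (elimB R 16 17 18 RL [(1, []), (3, [45, 17])]) ((EL.drop 0).take 32)) c65))) (by decide +kernel))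
theorem outer : ∃ α, α ∉ Cfsg.Inn G :=
  (m m0 h0).exists_outer (inj m0 h0 hb hc) (mR m0 h0) s46 nl3_ok (k := 3) (e := 1) (c := [45, 17]) (gtop m0 h0 hb hc) (by decide +kernel)
    (List.forall_mem_cons.2 ⟨(eq_of_eqW R2 c67), List.forall_mem_cons.2 ⟨(eq_of_eqW R2 c68), List.forall_mem_cons.2 ⟨(eq_of_eqW R2 c69), List.forall_mem_nil _⟩⟩⟩) rfl (cl m0 h0 hb hc) (NL := NL) (by decide +kernel) (all_take_done (all_take_step (all_take_zero _ NL) (allL_spec (Model.via _ (mR m0 h0) (fun R => allL (innB R 16 18 3 [45, 17]) ((NL.drop 0).take 16)) c66))) (by decide +kernel))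
theorem out : Nat.card (Cfsg.Out G) = 2 := (m m0 h0).out_two (gtop m0 h0 hb hc) (ocl m0 h0 hb hc) (outer m0 h0 hb hc)
end H0.OHe
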